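import Cfsg.Agent.Lib.GWKlein.Consumers.AbelianSimple
import Cfsg.Agent.Lib.LocalEven.ProductFusion.Product
import Cfsg.Agent.Lib.Fusion.Transfer

/-!
# Abelian Sylow 2-subgroups of simple groups with an invariant subgroup of index four

If the normaliser of an abelian Sylow 2-subgroup `S` of a simple group leaves invariant a subgroup
of index 4 containing all squares, then `S` is a four-group.  Invariant subgroups are strongly
closed, so two of them cannot meet trivially; averaging over the automiser then shows that the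
automiser has order at most 3 and that `S` has rank at most 2.
-/

set_option autoImplicit false
set_option linter.unusedSectionVars false
set_option linter.style.haveILetI false

namespace CfsgLib.Recognition.CentreIndexFour

open Subgroup

section Average

variable {V : Type*} [CommGroup V] [Finite V]

/-- The product of the images of an element under a group of automorphisms. -/
noncomputable def avg (A₀ : Subgroup (MulAut V)) : V →* V :=
  haveI : Fintype A₀ := Fintype.ofFinite _
  ∏ a : A₀, (a : MulAut V).toMonoidHom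

theorem avg_apply (A₀ : Subgroup (MulAut V)) [Fintype A₀] (x : V) :
    avg A₀ x = ∏ a : A₀, (a : MulAut V) x := by
  classical
  rw [avg, MonoidHom.finset_prod_apply]
  exact Finset.prod_congr (by ext; simp) fun a _ => rfl

theorem fix_avg (A₀ : Subgroup (MulAut V)) {b : MulAut V} (hb : b ∈ A₀) (x : V) :
    b (avg A₀ x) = avg A₀ x := by
  classical
  haveI : Fintype A₀ := Fintype.ofFinite _
  rw [avg_apply, map_prod]
  exact Fintype.prod_equiv (Equiv.mulLeft (⟨b, hb⟩ : A₀)) _ _ fun a => rfl

theorem avg_comm {A A₀ : Subgroup (MulAut V)} (hn : A ≤ normalizer (A₀ : Set (MulAut V))) {a : MulAut V}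
    (ha : a ∈ A) (x : V) : a (avg A₀ x) = avg A₀ (a x) := by
  classical
  haveI : Fintype A₀ := Fintype.ofFinite _
  rw [avg_apply, avg_apply, map_prod]
  let e : A₀ ≃ A₀ :=
    { toFun := fun b => ⟨a * (b : MulAut V) * a⁻¹, (mem_normalizer_iff.1 (hn ha) _).1 b.2⟩
      invFun := fun b => ⟨a⁻¹ * (b : MulAut V) * a, (mem_normalizer_iff.1 (hn ha) _).2 (by
        simpa [mul_assoc] using b.2)⟩
      left_inv := fun b => Subtype.ext (by simp [mul_assoc])
      right_inv := fun b => Subtype.ext (by simp [mul_assoc]) }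
  refine Fintype.prod_equiv e _ _ fun b => ?_
  simp [e, MulAut.mul_apply]

theorem avg_of_fix (A₀ : Subgroup (MulAut V)) {x : V} (hx : ∀ a ∈ A₀, a x = x) :
    avg A₀ x = x ^ Nat.card A₀ := by
  classical
  haveI : Fintype A₀ := Fintype.ofFinite _
  rw [avg_apply, Finset.prod_congr rfl fun a _ => hx _ a.2, Finset.prod_const, Finset.card_univ,
    Nat.card_eq_fintype_card]

/-- The subgroup `B` is invariant under the automorphisms in `A`. -/
def Inv (A : Subgroup (MulAut V)) (B : Subgroup V) : Prop := ∀ a ∈ A, ∀ x ∈ B, a x ∈ B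

/-- The elements of order at most two. -/
def omega (V : Type*) [CommGroup V] : Subgroup V := (powMonoidHom 2 : V →* V).ker

theorem mem_omega {x : V} : x ∈ omega V ↔ x ^ 2 = 1 := Iff.rfl

theorem pow_odd {x : V} (hx : x ^ 2 = 1) {n : ℕ} (hn : Odd n) : x ^ n = x := by
  obtain ⟨k, rfl⟩ := hn
  rw [pow_succ, pow_mul, hx, one_pow, one_mul]

variable {A : Subgroup (MulAut V)}

theorem inv_omega : Inv A (omega V) := fun a _ x hx => by
  rw [mem_omega] at hx ⊢; rw [← map_pow, hx, map_one]

theorem odd_card_of_le (hodd : Odd (Nat.card A)) {A₀ : Subgroup (MulAut V)} (hle : A₀ ≤ A) :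
    Odd (Nat.card A₀) :=
  hodd.of_dvd_nat (card_dvd_of_le hle)

/-- Either everything of order two is fixed by `A₀`, or nothing. -/
theorem dichotomy (hdis : ∀ B C : Subgroup V, Inv A B → Inv A C → B ⊓ C = ⊥ → B = ⊥ ∨ C = ⊥)
    (hodd : Odd (Nat.card A)) {A₀ : Subgroup (MulAut V)} (hle : A₀ ≤ A)
    (hn : A ≤ normalizer (A₀ : Set (MulAut V))) :
    (∀ x ∈ omega V, ∀ b ∈ A₀, b x = x) ∨ ∀ x ∈ omega V, avg A₀ x = 1 := by
  have h₀ := odd_card_of_le hodd hle
  let Fx : Subgroup V :=
    { carrier := {x | x ∈ omega V ∧ ∀ b ∈ A₀, b x = x}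
      one_mem' := ⟨one_mem _, fun b _ => map_one b⟩
      mul_mem' := fun {x y} hx hy => ⟨mul_mem hx.1 hy.1, fun b hb => by rw [map_mul, hx.2 b hb, hy.2 b hb]⟩
      inv_mem' := fun {x} hx => ⟨inv_mem hx.1, fun b hb => by rw [map_inv, hx.2 b hb]⟩ }
  have hFx : Inv A Fx := fun a ha x hx => ⟨inv_omega a ha x hx.1, fun b hb => by
    have h1 : a⁻¹ * b * a ∈ A₀ := (mem_normalizer_iff.1 (hn ha) _).2 (by simpa [mul_assoc] using hb)
    have h2 := congrArg a (hx.2 _ h1)
    rw [MulAut.mul_apply, MulAut.mul_apply, MulAut.apply_inv_self] at h2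
    exact h2⟩
  have hK : Inv A (omega V ⊓ (avg A₀).ker) := fun a ha x hx =>
    ⟨inv_omega a ha x hx.1, MonoidHom.mem_ker.2 (by rw [← avg_comm hn ha, MonoidHom.mem_ker.1 hx.2, map_one])⟩
  have hd : Fx ⊓ (omega V ⊓ (avg A₀).ker) = ⊥ := by
    rw [eq_bot_iff]
    rintro x ⟨hx, -, hx'⟩
    have h1 := avg_of_fix A₀ hx.2
    rw [MonoidHom.mem_ker.1 hx', pow_odd (mem_omega.1 hx.1) h₀] at h1
    exact mem_bot.2 h1.symm
  have hav : ∀ x ∈ omega V, avg A₀ x ∈ Fx := fun x hx =>
    ⟨mem_omega.2 (by rw [← map_pow, mem_omega.1 hx, map_one]), fun b hb => fix_avg A₀ hb x⟩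
  rcases hdis _ _ hFx hK hd with h | h
  · exact Or.inr fun x hx => mem_bot.1 (h ▸ hav x hx)
  · refine Or.inl fun x hx b hb => ?_
    have h1 : x⁻¹ * avg A₀ x ∈ omega V ⊓ (avg A₀).ker := by
      refine mem_inf.2 ⟨mul_mem (inv_mem hx) (hav x hx).1, ?_⟩
      rw [MonoidHom.mem_ker, map_mul, map_inv, avg_of_fix A₀ (x := avg A₀ x) fun c hc => fix_avg A₀ hc x,
        pow_odd (mem_omega.1 (hav x hx).1) h₀, inv_mul_cancel]
    rw [h, mem_bot, inv_mul_eq_one] at h1
    rw [h1]
    exact (hav x hx).2 b hb

variable (h2 : IsPGroup 2 V)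
include h2

/-- An automorphism of odd order fixing all elements of order two is trivial. -/
theorem eq_one_of_fix_omega {a : MulAut V} {m : ℕ} (hm : Odd m) (ham : a ^ m = 1)
    (hfix : ∀ x ∈ omega V, a x = x) : a = 1 := by
  suffices ∀ (k : ℕ) (x : V), x ^ 2 ^ k = 1 → a x = x by
    refine MulEquiv.ext fun x => ?_
    obtain ⟨k, hk⟩ := h2 x
    exact this k x hk
  intro k
  induction k with
  | zero => intro x hx; rw [pow_zero, pow_one] at hx; rw [hx, map_one]
  | succ k ih =>
    intro x hx
    have hsq : a (x ^ 2) = x ^ 2 := ih _ (by rw [← pow_mul, ← pow_succ']; exact hx)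
    have he : x⁻¹ * a x ∈ omega V := by
      rw [mem_omega, mul_pow, ← map_pow, hsq, inv_pow, inv_mul_cancel]
    have hae := hfix _ he
    obtain ⟨e, hedef⟩ : ∃ e, x⁻¹ * a x = e := ⟨_, rfl⟩
    rw [hedef] at he hae
    have hax : a x = x * e := by rw [← hedef, mul_inv_cancel_left]
    have hpow : ∀ n : ℕ, (a ^ n) x = x * e ^ n := by
      intro n
      induction n with
      | zero => simp
      | succ n ihn => rw [pow_succ', MulAut.mul_apply, ihn, map_mul, map_pow, hax, hae, mul_assoc, ← pow_succ']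
    have h1 := hpow m
    rw [ham, pow_odd (mem_omega.1 he) hm] at h1
    rw [hax, ← h1, MulAut.one_apply]

/-- The elements of order at most two form a group of order at most four. -/
theorem card_omega_le (hdis : ∀ B C : Subgroup V, Inv A B → Inv A C → B ⊓ C = ⊥ → B = ⊥ ∨ C = ⊥)
    (hodd : Odd (Nat.card A)) (Z : Subgroup V) (hZ : Inv A Z) (hidx : Z.index = 4) (hsq : ∀ x : V, x ^ 2 ∈ Z) :
    Nat.card (omega V) ≤ 4 := by
  classical
  have hmap : ∀ a : A, Z.map ((a : MulAut V) : V ≃* V).toMonoidHom = Z := fun a => by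
    refine le_antisymm ?_ fun x hx => ⟨(a⁻¹ : MulAut V) x, hZ _ (inv_mem a.2) x hx, ?_⟩
    · rintro _ ⟨x, hx, rfl⟩
      exact hZ _ a.2 x hx
    · exact MulAut.apply_inv_self _ _ _
  let ρ : A →* MulAut (V ⧸ Z) :=
    { toFun := fun a => QuotientGroup.congr Z Z (a : MulAut V) (hmap a)
      map_one' := MulEquiv.ext fun q => QuotientGroup.induction_on q fun x => rfl
      map_mul' := fun a b => MulEquiv.ext fun q => QuotientGroup.induction_on q fun x => rfl }
  set A₀ := ρ.ker.map A.subtype with hA₀def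
  have hle : A₀ ≤ A := map_subtype_le _
  have hn : A ≤ normalizer (A₀ : Set (MulAut V)) := by
    have h3 := le_normalizer_map A.subtype (H := ρ.ker)
    rwa [normalizer_eq_top_iff.2 inferInstance, ← MonoidHom.range_eq_map, range_subtype] at h3
  have hmod : ∀ b ∈ A₀, ∀ x : V, ((b x : V) : V ⧸ Z) = (x : V ⧸ Z) := by
    rintro _ ⟨b, hb, rfl⟩ x
    exact DFunLike.congr_fun (MonoidHom.mem_ker.1 hb) (x : V ⧸ Z)
  have h₀ := odd_card_of_le hodd hle
  obtain ⟨x, hx⟩ : ∃ x : V, x ∉ Z := by
    by_contra hcon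
    push Not at hcon
    rw [(eq_top_iff' Z).2 hcon, index_top] at hidx
    omega
  have hfixed : ∃ y ∈ omega V, y ≠ 1 ∧ avg A₀ y ≠ 1 := by
    haveI : Fintype A₀ := Fintype.ofFinite _
    have h1 : ((avg A₀ x : V) : V ⧸ Z) = (x : V ⧸ Z) := by
      rw [avg_apply, ← QuotientGroup.mk'_apply Z, map_prod]
      simp only [QuotientGroup.mk'_apply]
      rw [Finset.prod_congr rfl fun b _ => hmod _ b.2 x, Finset.prod_const, Finset.card_univ,
        ← Nat.card_eq_fintype_card]
      exact pow_odd (by rw [← QuotientGroup.mk_pow, QuotientGroup.eq_one_iff]; exact hsq x) h₀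
    have hy1 : avg A₀ x ≠ 1 := fun e => hx ((QuotientGroup.eq_one_iff x).1 (by rw [← h1, e]; rfl))
    obtain ⟨z, hz, hz2⟩ : ∃ z ∈ zpowers (avg A₀ x), orderOf z = 2 := by
      haveI : Fact (Nat.Prime 2) := ⟨Nat.prime_two⟩
      have hd : 2 ∣ Nat.card (zpowers (avg A₀ x)) := by
        obtain ⟨n, hn'⟩ := (h2.to_subgroup (zpowers (avg A₀ x))).exists_card_eq
        rcases n with - | n
        · rw [pow_zero, card_eq_one, zpowers_eq_bot] at hn'
          exact absurd hn' hy1
        · exact hn' ▸ dvd_pow_self 2 n.succ_ne_zero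
      obtain ⟨z, hz⟩ := exists_prime_orderOf_dvd_card' 2 hd
      exact ⟨z, z.2, by rwa [orderOf_coe]⟩
    have hzfix : ∀ b ∈ A₀, b z = z := fun b hb => by
      obtain ⟨i, rfl⟩ := mem_zpowers_iff.1 hz
      rw [map_zpow, fix_avg A₀ hb x]
    have hz1 : z ≠ 1 := fun e => by rw [e, orderOf_one] at hz2; omega
    have hzo : z ^ 2 = 1 := by rw [← hz2, pow_orderOf_eq_one]
    exact ⟨z, mem_omega.2 hzo, hz1, by rw [avg_of_fix A₀ hzfix, pow_odd hzo h₀]; exact hz1⟩
  have hA₀ : ∀ b ∈ A₀, b = 1 := by
    intro b hb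
    rcases dichotomy hdis hodd hle hn with h | h
    · exact eq_one_of_fix_omega h2 h₀ (congrArg Subtype.val (pow_card_eq_one' (x := (⟨b, hb⟩ : A₀))))
        fun y hy => h y hy b hb
    · obtain ⟨y, hy, -, hy'⟩ := hfixed
      exact absurd (h y hy) hy'
  have hinj : Function.Injective ρ := (MonoidHom.ker_eq_bot_iff ρ).1 (eq_bot_iff.2 fun a ha =>
    mem_bot.2 (Subtype.ext (hA₀ a ⟨a, ha, rfl⟩)))
  have h6 : Nat.card A ∣ 6 := by
    haveI : Fintype (V ⧸ Z) := Fintype.ofFinite _
    have h4 : Nat.card (V ⧸ Z) = 4 := by rw [← index_eq_card]; exact hidx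
    let f : MulAut (V ⧸ Z) →* Equiv.Perm {q : V ⧸ Z // q ≠ 1} :=
      { toFun := fun e => e.toEquiv.subtypeEquiv fun q =>
          ⟨fun hq he => hq (e.injective (he.trans (map_one e).symm)), fun hq he => hq (by rw [he]; exact map_one e)⟩
        map_one' := rfl
        map_mul' := fun _ _ => rfl }
    have hf : Function.Injective f := fun e e' h => MulEquiv.ext fun q => by
      rcases eq_or_ne q 1 with rfl | hq
      · rw [map_one, map_one]
      · exact congrArg Subtype.val (DFunLike.congr_fun (h : f e = f e') ⟨q, hq⟩)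
    have h3 : Nat.card {q : V ⧸ Z // q ≠ 1} = 3 := by
      rw [Nat.card_eq_fintype_card, Fintype.card_subtype_compl, Fintype.card_subtype_eq,
        ← Nat.card_eq_fintype_card, h4]
    have := (card_dvd_of_injective ρ hinj).trans (card_dvd_of_injective f hf)
    rwa [Nat.card_perm, h3] at this
  have h13 : Nat.card A = 1 ∨ Nat.card A = 3 := by
    have := Nat.le_of_dvd (by norm_num) h6
    have h0 := Nat.odd_iff.1 hodd
    interval_cases hc : Nat.card A <;> first | omega | exact Or.inl rfl | exact Or.inr rfl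
  rcases dichotomy hdis hodd le_rfl le_normalizer with hall | hnone
  · -- every subgroup of `omega V` is invariant
    have hz : ∀ z ∈ omega V, Inv A (zpowers z) := fun z hz a ha y hy => by
      obtain ⟨i, rfl⟩ := mem_zpowers_iff.1 hy
      rw [map_zpow, hall z hz a ha]
      exact zpow_mem (mem_zpowers z) i
    obtain ⟨y, hy, hy1, -⟩ := hfixed
    have hsub : omega V ≤ zpowers y := by
      intro z hz'
      rcases eq_or_ne z 1 with rfl | hz1
      · exact one_mem _
      by_contra hzy
      have hd : zpowers y ⊓ zpowers z = ⊥ := by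
        rw [eq_bot_iff]
        rintro w ⟨hw, hw'⟩
        obtain ⟨i, rfl⟩ := mem_zpowers_iff.1 hw'
        rcases Int.even_or_odd i with ⟨j, rfl⟩ | ⟨j, rfl⟩
        · rw [mem_bot, ← two_mul, zpow_mul, zpow_ofNat, mem_omega.1 hz', one_zpow]
        · refine absurd ?_ hzy
          rw [zpow_add, zpow_mul, zpow_ofNat, mem_omega.1 hz', one_zpow, one_mul, zpow_one] at hw
          exact hw
      rcases hdis _ _ (hz y hy) (hz z hz') hd with e | e
      · exact hy1 (zpowers_eq_bot.1 e)
      · exact hz1 (zpowers_eq_bot.1 e)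
    refine (card_le_of_le hsub).trans ?_
    rw [Nat.card_zpowers]
    exact (Nat.le_of_dvd (by norm_num) (orderOf_dvd_of_pow_eq_one (mem_omega.1 hy))).trans (by norm_num)
  · haveI : Fact (Nat.Prime 3) := ⟨Nat.prime_three⟩
    haveI : Fintype A := Fintype.ofFinite _
    rcases h13 with h1 | h3
    · obtain ⟨y, hy, hy1, -⟩ := hfixed
      have h := hnone y hy
      rw [avg_of_fix A fun b hb => by
        rw [card_eq_one.1 h1] at hb; rw [mem_bot.1 hb, MulAut.one_apply], h1, pow_one] at h
      exact absurd h hy1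
    obtain ⟨α, hα⟩ : ∃ α : A, α ≠ 1 := by
      haveI : Nontrivial A := Finite.one_lt_card_iff_nontrivial.1 (by omega)
      exact exists_ne 1
    have hα3 : orderOf α = 3 := orderOf_eq_prime (by rw [← h3]; exact pow_card_eq_one') hα
    have hmem : ∀ a : A, a = 1 ∨ a = α ∨ a = α ^ 2 := by
      intro a
      have ha : a ∈ Submonoid.powers α :=
        mem_powers_iff_mem_zpowers.2 (mem_zpowers_of_prime_card h3 hα)
      obtain ⟨n, hn', rfl⟩ := (mem_powers_iff_mem_range_orderOf.1 ha |> Finset.mem_image.1)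
      rw [Finset.mem_range, hα3] at hn'
      interval_cases n <;> simp
    let u : V → V := (α : MulAut V)
    have hu : ∀ z ∈ omega V, u (u z) = z * u z := by
      intro z hz
      have huniv : (Finset.univ : Finset A) = {1, α, α ^ 2} := by
        ext a; simp [hmem a]
      have h := hnone z hz
      have hne : α ^ 2 ≠ 1 := fun e => by have := orderOf_dvd_of_pow_eq_one e; rw [hα3] at this; omega
      have hne' : α ≠ α ^ 2 := fun e => hα (by rw [pow_two] at e; exact mul_eq_left.1 e.symm)
      rw [avg_apply, huniv, Finset.prod_insert (by simp [Ne.symm hα, Ne.symm hne]),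
        Finset.prod_insert (by simp [hne']), Finset.prod_singleton] at h
      have h' : z * (u z * u (u z)) = 1 := by simpa [u, pow_two, MulAut.mul_apply] using h
      have h'' : u (u z) = (z * u z)⁻¹ := eq_inv_of_mul_eq_one_right (by rw [mul_assoc]; exact h')
      have huz : (u z) ^ 2 = 1 := by
        show ((α : MulAut V) z) ^ 2 = 1
        rw [← map_pow, mem_omega.1 hz, map_one]
      rw [h'', inv_eq_iff_mul_eq_one, ← pow_two, mul_pow, mem_omega.1 hz, huz, one_mul]
    have hWinv : ∀ z ∈ omega V, Inv A (closure {z, u z}) := by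
      intro z hz a ha
      have hα' : ∀ w ∈ closure {z, u z}, u w ∈ closure {z, u z} := by
        intro w hw
        induction hw using closure_induction with
        | mem w hw =>
          rcases hw with rfl | rfl
          · exact subset_closure (Set.mem_insert_of_mem _ rfl)
          · rw [hu z hz]
            exact mul_mem (subset_closure (Set.mem_insert _ _)) (subset_closure (Set.mem_insert_of_mem _ rfl))
        | one => show (α : MulAut V) 1 ∈ _; rw [map_one]; exact one_mem _
        | mul p q _ _ hp hq => show (α : MulAut V) (p * q) ∈ _; rw [map_mul]; exact mul_mem hp hq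
        | inv p _ hp => show (α : MulAut V) p⁻¹ ∈ _; rw [map_inv]; exact inv_mem hp
      intro w hw
      rcases hmem ⟨a, ha⟩ with e | e | e <;> obtain rfl : a = _ := congrArg Subtype.val e
      · simpa using hw
      · exact hα' w hw
      · simpa [pow_two, u] using hα' _ (hα' w hw)
    have hWcases : ∀ z ∈ omega V, ∀ w ∈ closure {z, u z}, w = 1 ∨ w = z ∨ w = u z ∨ w = z * u z := by
      intro z hz w hw
      obtain ⟨p, hp, q, hq, rfl⟩ := mem_sup.1 (show w ∈ zpowers z ⊔ zpowers (u z) by
        rwa [zpowers_eq_closure, zpowers_eq_closure, ← Subgroup.closure_union, Set.singleton_union])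
      have hcases : ∀ t : V, t ^ 2 = 1 → ∀ r ∈ zpowers t, r = 1 ∨ r = t := by
        intro t ht r hr
        obtain ⟨i, rfl⟩ := mem_zpowers_iff.1 hr
        rcases Int.even_or_odd i with ⟨j, rfl⟩ | ⟨j, rfl⟩
        · left; rw [← two_mul, zpow_mul, zpow_ofNat, ht, one_zpow]
        · right; rw [zpow_add, zpow_mul, zpow_ofNat, ht, one_zpow, one_mul, zpow_one]
      rcases hcases z (mem_omega.1 hz) p hp with e | e <;>
        rcases hcases (u z) (by show ((α : MulAut V) z) ^ 2 = 1; rw [← map_pow, mem_omega.1 hz, map_one]) q hq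
          with e' | e' <;> simp [e, e']
    obtain ⟨y, hy, hy1, -⟩ := hfixed
    set W := closure {y, u y} with hW
    have hsub : omega V ≤ W := by
      intro z hz
      by_contra hzW
      have hz1 : z ≠ 1 := fun e => hzW (e ▸ one_mem _)
      have hd : W ⊓ closure {z, u z} = ⊥ := by
        rw [eq_bot_iff]
        rintro w ⟨hwW, hw⟩
        refine mem_bot.2 (by_contra fun hw1 => hzW ?_)
        have huw : u w ∈ W := hWinv y hy _ α.2 w hwW
        rcases hWcases z hz w hw with e | e | e | e
        · exact absurd e hw1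
        · exact e ▸ hwW
        · have h := hu z hz
          rw [e] at huw hwW
          have := W.mul_mem (W.inv_mem hwW) (h ▸ huw)
          rwa [mul_comm z, inv_mul_cancel_left] at this
        · rw [e] at huw hwW
          have h : u (z * u z) = z := by
            show (α : MulAut V) (z * u z) = z
            rw [map_mul]
            show u z * u (u z) = z
            rw [hu z hz, mul_comm z, ← mul_assoc, ← pow_two, show (u z) ^ 2 = 1 by
              show ((α : MulAut V) z) ^ 2 = 1
              rw [← map_pow, mem_omega.1 hz, map_one], one_mul]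
          rwa [h] at huw
      rcases hdis _ _ (hWinv y hy) (hWinv z hz) hd with e | e
      · exact hy1 (mem_bot.1 (e ▸ subset_closure (Set.mem_insert _ _)))
      · exact hz1 (mem_bot.1 (e ▸ subset_closure (Set.mem_insert _ _)))
    refine (card_le_of_le hsub).trans ?_
    calc Nat.card W ≤ ({1, y, u y, y * u y} : Finset V).card := by
          rw [← SetLike.coe_sort_coe, Nat.card_coe_set_eq, ← Set.ncard_coe_finset]
          exact Set.ncard_le_ncard (fun w hw => by simpa using hWcases y hy w hw) (Finset.finite_toSet _)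
      _ ≤ 4 := Finset.card_le_four

end Average

universe u

variable {X : Type u} [Group X] [Finite X]

/-- A simple group with abelian Sylow 2-subgroup `S` and a normaliser-invariant subgroup of index 4
containing all squares has `S` a four-group. -/
theorem isKleinFour_of_invariant [IsSimpleGroup X] (hna : ¬ IsMulCommutative X) (S : Sylow 2 X)
    (hS : IsMulCommutative ↥(S : Subgroup X)) (Z : Subgroup X) (hidx : Z.relIndex (S : Subgroup X) = 4)
    (hsq : ∀ x ∈ (S : Subgroup X), x ^ 2 ∈ Z)
    (hinv : ∀ n ∈ normalizer ((S : Subgroup X) : Set X), ∀ x ∈ (S : Subgroup X), x ∈ Z → n * x * n⁻¹ ∈ Z) :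
    IsKleinFour ↥(S : Subgroup X) := by
  haveI : Fact (Nat.Prime 2) := ⟨Nat.prime_two⟩
  let _ : CommGroup ↥(S : Subgroup X) :=
    { (inferInstance : Group ↥(S : Subgroup X)) with mul_comm := hS.is_comm.comm }
  have hS' : ∀ a ∈ (S : Subgroup X), ∀ b ∈ (S : Subgroup X), a * b = b * a := fun a ha b hb =>
    congrArg Subtype.val (hS.is_comm.comm ⟨a, ha⟩ ⟨b, hb⟩)
  set N := normalizer ((S : Subgroup X) : Set X)
  set A := (S : Subgroup X).normalizerMonoidHom.range with hA
  have hodd : Odd (Nat.card A) := by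
    have h1 : (S : Subgroup X).subgroupOf N ≤ (S : Subgroup X).normalizerMonoidHom.ker := by
      rw [normalizerMonoidHom_ker]
      exact fun n hn => mem_subgroupOf.2 fun m hm => hS' m hm _ hn
    have h2 : Nat.card A ∣ (S : Subgroup X).index := by
      rw [hA, ← index_ker]
      exact (index_dvd_of_le h1).trans (relIndex_dvd_index_of_le le_normalizer)
    exact Nat.not_even_iff_odd.1 fun he => S.not_dvd_index (he.two_dvd.trans h2)
  have hO : ∀ {t : X}, t ∈ (S : Subgroup X) → t ≠ 1 → Cfsg.oddCore X = ⊥ := by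
    intro t ht ht1
    haveI := CfsgLib.Involution.ZStar.oddCore_normal (G := X)
    rcases (inferInstance : (Cfsg.oddCore X).Normal).eq_bot_or_eq_top with e | e
    · exact e
    · exfalso
      have hodd' : Odd (Nat.card X) := by
        have := CfsgLib.Involution.ZStar.odd_card_oddCore (G := X)
        rwa [e, card_top] at this
      obtain ⟨k, hk⟩ := S.2 ⟨t, ht⟩
      have ht2 : t ^ 2 ^ k = 1 := congrArg Subtype.val hk
      refine ht1 ?_
      rw [← pow_one t, ← ((Nat.coprime_two_left.2 hodd').pow_left k)]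
      exact pow_gcd_eq_one.2 ⟨ht2, pow_card_eq_one'⟩
  have hdis : ∀ B C : Subgroup ↥(S : Subgroup X), Inv A B → Inv A C → B ⊓ C = ⊥ → B = ⊥ ∨ C = ⊥ := by
    intro B C hB hC hd
    by_contra hne
    push Not at hne
    have hcl : ∀ D : Subgroup ↥(S : Subgroup X), Inv A D →
        Cfsg.IsStronglyClosed (D.map (S : Subgroup X).subtype) (S : Subgroup X) := by
      intro D hD
      refine ⟨map_subtype_le D, ?_⟩
      rintro _ ⟨x, hx, rfl⟩ g hg
      obtain ⟨n, hn, he⟩ := CfsgLib.Fusion.Transfer.burnside_central S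
        (x := (x : X)) (y := g * x * g⁻¹) (mem_centralizer_iff.2 fun m hm => hS' m hm _ x.2)
        (mem_centralizer_iff.2 fun m hm => hS' m hm _ hg) ⟨g, rfl⟩
      exact ⟨_, hD _ ⟨⟨n, hn⟩, rfl⟩ x hx, he⟩
    have hnt : ∀ D : Subgroup ↥(S : Subgroup X), D ≠ ⊥ →
        normalClosure ((D.map (S : Subgroup X).subtype : Subgroup X) : Set X) = ⊤ := by
      intro D hD
      rcases (normalClosure_normal (s := ((D.map (S : Subgroup X).subtype : Subgroup X) : Set X))).eq_bot_or_eq_top
        with e | e
      · refine absurd (eq_bot_iff.2 fun x hx => ?_) hD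
        have : (x : X) ∈ (⊥ : Subgroup X) := e ▸ subset_normalClosure (mem_map_of_mem _ hx)
        exact mem_bot.2 (Subtype.ext (mem_bot.1 this))
      · exact e
    obtain ⟨b, hb, hb1⟩ : ∃ b ∈ B, b ≠ 1 := by
      by_contra h
      push Not at h
      exact hne.1 (eq_bot_iff.2 fun x hx => mem_bot.2 (h x hx))
    have h := CfsgLib.LocalEven.ProductFusion.commutator_normalClosure_le S (hcl B hB) (hcl C hC)
      (fun a ha c hc => hS' a (map_subtype_le B ha) c (map_subtype_le C hc))
      (by rw [← map_inf _ _ _ (S : Subgroup X).subtype_injective, hd, Subgroup.map_bot])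
    rw [hnt B hne.1, hnt C hne.2, hO b.2 fun e => hb1 (Subtype.ext e)] at h
    refine hna ⟨⟨fun x y => ?_⟩⟩
    exact commutatorElement_eq_one_iff_mul_comm.1 (mem_bot.1 (h (commutator_mem_commutator (mem_top x) (mem_top y))))
  have h4 := card_omega_le S.2 hdis hodd (Z.subgroupOf (S : Subgroup X)) (by
    rintro _ ⟨n, rfl⟩ x hx
    exact mem_subgroupOf.2 (hinv n n.2 x x.2 (mem_subgroupOf.1 hx))) hidx
    (fun x => mem_subgroupOf.2 (hsq x x.2))
  refine GWKlein.Consumers.isKleinFour_of_rank_two hna S hS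
    (GWKlein.Consumers.pRankLE_two_of_omegaOne S hS' (le_trans (Nat.card_le_card_of_injective
      (fun a : GWKlein.Consumers.omegaOne (S : Subgroup X) hS' => (⟨⟨a, a.2.1⟩, by
        rw [mem_omega, pow_two]; exact Subtype.ext a.2.2⟩ : omega ↥(S : Subgroup X))) ?_) h4))
  intro a b hab
  exact Subtype.ext (congrArg (fun c : omega ↥(S : Subgroup X) => ((c : ↥(S : Subgroup X)) : X)) hab)

end CfsgLib.Recognition.CentreIndexFour
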