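import Cfsg.Agent.S5265
import Cfsg.Agent.Lib.FusionSystem.Group
import Cfsg.Agent.Lib.FusionSystem.Hyperfocal
import Cfsg.Agent.Lib.LocalEven.ProductFusion.Product
import Cfsg.Agent.Lib.Involution.ZStar.Main
import Cfsg.Agent.Lib.Components.Constrained
import Cfsg.Agent.Lib.TwoGroups.CyclicMax

/-!
# Simple groups whose Sylow 2-subgroup has centre of index four

Such a Sylow subgroup is dihedral of order 8.  The common part of the central subgroups attached to
the essential subgroups and the subgroup generated by the orbits of the commutator are strongly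
closed, commute and meet trivially, so the former is trivial.
-/

set_option autoImplicit false
set_option linter.unusedSectionVars false
set_option linter.style.haveILetI false

namespace CfsgLib.Recognition.CentreIndexFour

open Cfsg Cfsg.FusionSystem CfsgLib.Fsys CfsgLib.Fsys.CentralIndex Cfsg.Agent.S5265
open scoped commutatorElement

section Generators

variable {Ω : Type*} [Group Ω] {S : Subgroup Ω} [Finite S] {p : ℕ} [Fact p.Prime] {F : FusionSystem S}

/-- A subgroup respected by the automorphisms of `S` and of the essential subgroups is respected by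
all morphisms. -/
theorem respected_of_generators (hS : IsPGroup p S) (hF : F.IsSaturated p) (T : Subgroup Ω)
    (h1 : ∀ g, Fn F S g → ∀ x ∈ S, x ∈ T → g x ∈ T)
    (h2 : ∀ P, F.IsEssential p P → ∀ β ∈ F.autGroup P, ∀ x ∈ P, x ∈ T → autFn β x ∈ T)
    {P : Subgroup Ω} {f : Ω → Ω} (hf : Fn F P f) {x : Ω} (hx : x ∈ P) (hxT : x ∈ T) : f x ∈ T := by
  let C : Subgroup Ω → (Ω → Ω) → Prop := fun P f => ∀ x ∈ P, (x ∈ T ↔ f x ∈ T)
  let E := predSystem F C (fun P f g he _ h' x hx => he x hx ▸ h' x hx)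
    (fun P hP s hs x hx => ⟨h1 _ (fn_conj le_rfl hs) x (hP hx), fun h' => by
      have := h1 _ (fn_conj le_rfl (S.inv_mem hs)) _ (S.mul_mem (S.mul_mem hs (hP hx)) (S.inv_mem hs)) h'
      simpa [mul_assoc] using this⟩)
    (fun P R f g hf hg hm h' h'' x hx => (h' x hx).trans (h'' _ (hm x hx)))
    (fun P f g hf hg hgf h' y hy => by
      obtain ⟨x, hx, rfl⟩ := hf.mem_img.1 hy
      rw [hgf x hx]
      exact (h' x hx).symm)
  have hstep : ∀ P, P ≤ S → (∀ β ∈ F.autGroup P, ∀ x ∈ P, x ∈ T → autFn β x ∈ T) →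
      F.autGroup P ≤ E.autGroup P := by
    intro P hPS h β hβ
    refine (mem_autGroup_iff_fn hPS).2
      (fn_predSystem.2 ⟨(mem_autGroup_iff_fn hPS).1 hβ, fun x hx => ⟨h β hβ x hx, fun h' => ?_⟩⟩)
    have h3 := h β⁻¹ ((F.autGroup P).inv_mem hβ) _ (autFn_mem β hx) h'
    rwa [show autFn β x = ((β ⟨x, hx⟩ : P) : Ω) from autFn_coe β ⟨x, hx⟩,
      autFn_coe β⁻¹ (β ⟨x, hx⟩), MulAut.inv_apply_self] at h3
  have hle : F ≤ E := alperin hS hF E
    (hstep S le_rfl fun β hβ x hx => h1 _ ((mem_autGroup_iff_fn le_rfl).1 hβ) x hx)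
    fun P hPS hP => hstep P hPS.le (h2 P hP)
  exact ((fn_predSystem.1 (fn_of_le hle hf)).2 x hx).1 hxT

end Generators

universe u

variable {X : Type u} [Group X] [Finite X]

theorem stronglyClosed_of_respected (S : Sylow 2 X) {T : Subgroup X} (hT : T ≤ S)
    (h : ∀ (P : Subgroup X) (f : X → X), Fn (groupFusionSystem (S : Subgroup X)) P f → ∀ x ∈ P, x ∈ T → f x ∈ T) :
    Cfsg.IsStronglyClosed T (S : Subgroup X) := by
  refine ⟨hT, fun x hx g hgx => ?_⟩
  refine h (Subgroup.zpowers x) (fun y => g * y * g⁻¹) (fn_group_conj (Subgroup.zpowers_le.2 (hT hx)) g ?_) x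
    (Subgroup.mem_zpowers x) hx
  intro y hy
  obtain ⟨i, rfl⟩ := Subgroup.mem_zpowers_iff.1 hy
  rw [← conj_zpow]
  exact zpow_mem hgx i

/-- In a simple group a Sylow 2-subgroup whose centre has index 4 is dihedral of order 8. -/
theorem dihedral_of_simple [IsSimpleGroup X] (S₀ : Sylow 2 X)
    (hna : ∃ x y : (S₀ : Subgroup X), x * y ≠ y * x)
    (hidx : (Subgroup.center (S₀ : Subgroup X)).index = 4) :
    Nonempty ((S₀ : Subgroup X) ≃* DihedralGroup 4) := by
  classical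
  haveI : Fact (Nat.Prime 2) := ⟨Nat.prime_two⟩
  set S : Subgroup X := (S₀ : Subgroup X) with hSdef
  set F := groupFusionSystem S with hFdef
  have hS : IsPGroup 2 S := S₀.2
  have hF : F.IsSaturated 2 := group_isSaturated S₀
  obtain ⟨c, h⟩ := setup_exists hS hF (p := 2) (by rw [hidx]; norm_num) hna
  have hcS : c ∈ S := (mem_Zc.1 h.c_mem).1
  have hXna : ¬ IsMulCommutative X := fun hc => by
    obtain ⟨x, y, hxy⟩ := hna
    exact hxy (Subtype.ext (hc.is_comm.comm (x : X) y))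
  haveI hperf : Group.IsPerfect X := ⟨by
    rcases (inferInstance : (commutator X).Normal).eq_bot_or_eq_top with e | e
    · refine absurd ⟨⟨fun x y => ?_⟩⟩ hXna
      exact commutatorElement_eq_one_iff_mul_comm.1 (Subgroup.mem_bot.1 (e ▸
        Subgroup.commutator_mem_commutator (Subgroup.mem_top x) (Subgroup.mem_top y)))
    · exact e⟩
  have hhyp : F.hyperfocalSubgroup 2 = S := by
    rw [hFdef, hSdef, group_hyperfocal_eq, CfsgLib.Components.pResidual_eq_top_of_perfect, inf_top_eq]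
  have hO : Cfsg.oddCore X = ⊥ := by
    haveI := CfsgLib.Involution.ZStar.oddCore_normal (G := X)
    rcases (inferInstance : (Cfsg.oddCore X).Normal).eq_bot_or_eq_top with e | e
    · exact e
    · have h1 := CfsgLib.Involution.ZStar.odd_card_oddCore (G := X)
      rw [e, Subgroup.card_top] at h1
      exact absurd ((orderOf_eq_prime h.c_pow h.c_ne ▸ orderOf_dvd_natCard c : 2 ∣ Nat.card X)) h1.not_two_dvd_nat
  have hgc : ∀ (g : X → X), Fn F S g → g c = c := fun g hg =>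
    (mem_c_cases h (h.map_c hg (Subgroup.mem_zpowers c))).resolve_left fun e =>
      h.c_ne ((hg.eq_one_iff hcS).1 e)
  have hnocentre : ∀ x : X, x ∈ Subgroup.center X → x = 1 := fun x hx => by
    rcases (inferInstance : (Subgroup.center X).Normal).eq_bot_or_eq_top with e | e
    · exact Subgroup.mem_bot.1 (e ▸ hx)
    · exact absurd ⟨⟨fun x y => Subgroup.mem_center_iff.1 (e ▸ Subgroup.mem_top y) x⟩⟩ hXna
  obtain ⟨P₀, hP₀⟩ : ∃ P, F.IsEssential 2 P := by
    by_contra hno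
    push Not at hno
    have hcl := stronglyClosed_of_respected S₀ (T := Subgroup.zpowers c) (Subgroup.zpowers_le.2 hcS)
      fun P f hf x hx hxc => respected_of_generators hS hF _ (fun g hg y _ hy => h.map_c hg hy)
        (fun Q hQ => absurd hQ (hno Q)) hf hx hxc
    obtain ⟨N, hN, hNodd, hNc⟩ := CfsgLib.Involution.ZStar.exists_odd_normal_of_sylow S₀
      (orderOf_eq_prime h.c_pow h.c_ne) hcS fun g hg =>
        (mem_c_cases h (hcl.2 c (Subgroup.mem_zpowers c) g hg)).resolve_left fun e => h.c_ne (conj_eq_one_iff.1 e)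
    refine h.c_ne (hnocentre c (Subgroup.mem_center_iff.2 fun g => ?_))
    rcases hN.eq_bot_or_eq_top with e | e
    · have h1 := Subgroup.mem_bot.1 (e ▸ hNc g)
      rw [mul_inv_eq_one, mul_inv_eq_iff_eq_mul] at h1
      exact h1.symm
    · rw [e, Subgroup.card_top] at hNodd
      exact absurd ((orderOf_eq_prime h.c_pow h.c_ne ▸ orderOf_dvd_natCard c : 2 ∣ Nat.card X)) hNodd.not_two_dvd_nat
  choose W d fr hinv hagree hmod htau using fun P (hP : F.IsEssential 2 P) => structure_of_essential h hP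
  have hfix : ∀ P hP, ∀ (g : X → X), Fn F S g → img g P = P := fun P hP g hg =>
    map_frame_le h (fr P hP) (S_le_normalizer h hP) hg
  have hgaut : ∀ P, F.IsEssential 2 P → ∀ (g : X → X), Fn F S g → ∃ β ∈ F.autGroup P, ∀ v ∈ P, autFn β v = g v := by
    intro P hP g hg
    obtain ⟨β, hβ, hβg⟩ := exists_aut_of_fn (hg.mono hP.1.1) (hfix P hP g hg)
    exact ⟨β, hβ, fun v hv => (autFn_coe β ⟨v, hv⟩).trans (hβg ⟨v, hv⟩)⟩
  have hgW : ∀ P hP, ∀ (g : X → X), Fn F S g → ∀ w ∈ W P hP, g w ∈ W P hP := by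
    intro P hP g hg w hw
    obtain ⟨β, hβ, hβg⟩ := hgaut P hP g hg
    exact hβg w ((fr P hP).Z_le ((fr P hP).W_le hw)) ▸ hinv P hP β hβ w hw
  -- the orbit of `c` under the automorphisms of an essential subgroup
  let O : ∀ P, F.IsEssential 2 P → Subgroup X := fun P hP => (Subgroup.closure
    {v : P | ∃ β ∈ F.autGroup P, v = β ⟨c, (fr P hP).Z_le h.c_mem⟩}).map P.subtype
  have hcO : ∀ P hP, c ∈ O P hP := fun P hP =>
    ⟨⟨c, (fr P hP).Z_le h.c_mem⟩, Subgroup.subset_closure ⟨1, (F.autGroup P).one_mem, rfl⟩, rfl⟩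
  have hOP : ∀ P hP, O P hP ≤ P := fun P hP => Subgroup.map_subtype_le _
  have hOinv : ∀ P hP, ∀ β ∈ F.autGroup P, ∀ x ∈ O P hP, autFn β x ∈ O P hP := by
    rintro P hP β hβ _ ⟨v, hv, rfl⟩
    refine ⟨β v, ?_, (autFn_coe β v).symm⟩
    suffices Subgroup.closure {v : P | ∃ β ∈ F.autGroup P, v = β ⟨c, (fr P hP).Z_le h.c_mem⟩} ≤
        (Subgroup.closure _).comap (β : P ≃* P).toMonoidHom from this hv
    refine (Subgroup.closure_le _).2 ?_
    rintro _ ⟨γ, hγ, rfl⟩
    exact Subgroup.subset_closure ⟨β * γ, (F.autGroup P).mul_mem hβ hγ, rfl⟩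
  have hOg : ∀ P hP, ∀ (g : X → X), Fn F S g → ∀ x ∈ O P hP, g x ∈ O P hP := by
    intro P hP g hg x hx
    obtain ⟨β, hβ, hβg⟩ := hgaut P hP g hg
    exact hβg x (hOP P hP hx) ▸ hOinv P hP β hβ x hx
  have hOn : ∀ P hP, S ≤ Subgroup.normalizer (O P hP : Set X) := fun P hP s hs => by
    haveI := finite_of_le_base ((hOP P hP).trans hP.1.1)
    exact mem_normalizer_of_map_le fun u hu => hOg P hP _ (fn_conj le_rfl hs) u hu
  have hOU : ∀ P hP, O P hP ≤ Subgroup.zpowers c ⊔ Subgroup.zpowers (d P hP) := by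
    intro P hP
    rintro _ ⟨v, hv, rfl⟩
    suffices Subgroup.closure {v : P | ∃ β ∈ F.autGroup P, v = β ⟨c, (fr P hP).Z_le h.c_mem⟩} ≤
        (Subgroup.zpowers c ⊔ Subgroup.zpowers (d P hP)).comap P.subtype from this hv
    refine (Subgroup.closure_le _).2 ?_
    rintro _ ⟨β, hβ, rfl⟩
    obtain ⟨g, hg, hgv⟩ := hmod P hP β hβ
    have h1 := (hgv c ((fr P hP).Z_le h.c_mem)).2
    rw [hgc g hg, autFn_coe β ⟨c, (fr P hP).Z_le h.c_mem⟩] at h1
    have h2 := Subgroup.mul_mem _ (Subgroup.mem_sup_left (Subgroup.mem_zpowers c)) h1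
    rwa [mul_inv_cancel_left] at h2
  -- their join
  set D : Subgroup X := ⨆ (P : Subgroup X) (hP : F.IsEssential 2 P), O P hP with hD
  have hOD : ∀ P hP, O P hP ≤ D := fun P hP => le_iSup₂_of_le P hP le_rfl
  have hDS : D ≤ S := iSup₂_le fun P hP => (hOP P hP).trans hP.1.1
  have hDP : ∀ P hP, ∀ x ∈ D, x ∈ P → x ∈ O P hP := by
    intro P hP x hx hxP
    by_cases hone : ∀ Q, F.IsEssential 2 Q → Q = P
    · have hle : D ≤ O P hP := iSup₂_le fun Q hQ => by obtain rfl := hone Q hQ; exact le_rfl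
      exact hle hx
    push Not at hone
    obtain ⟨R, hR, hRP⟩ := hone
    have hle : D ≤ O P hP ⊔ Subgroup.zpowers (d R hR) := iSup₂_le fun Q hQ => by
      rcases at_most_two h (fr P hP) (fr R hR) (fr Q hQ) (Ne.symm hRP) with rfl | rfl
      · exact le_sup_left
      · exact (hOU Q hQ).trans (sup_le ((Subgroup.zpowers_le.2 (hcO P hP)).trans le_sup_left) le_sup_right)
    obtain ⟨u, hu, v, hv, rfl⟩ := (CfsgLib.Coprime.mem_sup_of_le_normalizer
      ((Subgroup.zpowers_le.2 (hR.1.1 (fr R hR).d_mem)).trans (hOn P hP))).1 (hle hx)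
    obtain ⟨k, rfl⟩ := Subgroup.mem_zpowers_iff.1 hv
    rcases zpow_two_cases (fr R hR).d_pow k with ⟨-, hk⟩ | ⟨-, hk⟩ <;> rw [hk] at hxP ⊢
    · rwa [mul_one]
    · exfalso
      have hdP : d R hR ∈ P := by
        have := P.mul_mem (P.inv_mem (hOP P hP hu)) hxP
        rwa [inv_mul_cancel_left] at this
      exact frame_not_commute h (fr R hR) (fr P hP) hRP ((fr P hP).comm _ hdP _ (fr P hP).d_mem)
  have hDcl : Cfsg.IsStronglyClosed D S := by
    refine stronglyClosed_of_respected S₀ hDS fun P f hf x hx hxD =>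
      respected_of_generators hS hF D (fun g hg y hy hyD => ?_)
        (fun Q hQ β hβ y hy hyD => hOD Q hQ (hOinv Q hQ β hβ y (hDP Q hQ y hyD hy))) hf hx hxD
    obtain ⟨φ, -, hφ⟩ := id hg
    have hle : D.subgroupOf S ≤ D.comap φ := by
      intro v hv
      suffices D ≤ (D.comap φ).map S.subtype by
        obtain ⟨w, hw, e⟩ := this (Subgroup.mem_subgroupOf.1 hv)
        rwa [S.subtype_injective e] at hw
      exact iSup₂_le fun Q hQ z hz => ⟨⟨z, hQ.1.1 (hOP Q hQ hz)⟩, by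
        show φ _ ∈ D
        rw [hφ]
        exact hOD Q hQ (hOg Q hQ g hg z hz), rfl⟩
    have := hle (x := ⟨y, hy⟩) (Subgroup.mem_subgroupOf.2 hyD)
    rwa [Subgroup.mem_comap, hφ] at this
  -- central elements whose images lie in every `W` are trivial
  let W₀ : Subgroup X :=
    { carrier := {z | z ∈ Zc S ∧ ∀ (g : X → X), Fn F S g → ∀ P hP, g z ∈ W P hP}
      mul_mem' := fun {a b} ha hb => ⟨(Zc S).mul_mem ha.1 hb.1, fun g hg P hP => by
        rw [hg.map_mul (mem_Zc.1 ha.1).1 (mem_Zc.1 hb.1).1]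
        exact (W P hP).mul_mem (ha.2 g hg P hP) (hb.2 g hg P hP)⟩
      one_mem' := ⟨(Zc S).one_mem, fun g hg P hP => by rw [hg.map_one]; exact (W P hP).one_mem⟩
      inv_mem' := fun {a} ha => ⟨(Zc S).inv_mem ha.1, fun g hg P hP => by
        rw [hg.map_inv (mem_Zc.1 ha.1).1]
        exact (W P hP).inv_mem (ha.2 g hg P hP)⟩ }
  have hW₀key : ∀ (g : X → X), Fn F S g → ∀ z ∈ W₀, g z ∈ W₀ := fun g hg z hz =>
    ⟨map_Zc h hg hz.1, fun g' hg' P' hP' => hz.2 (g' ∘ g) (hg.comp hg' fun x hx => hg.mem hx) P' hP'⟩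
  have hW₀cl : Cfsg.IsStronglyClosed W₀ S := by
    refine stronglyClosed_of_respected S₀ (fun z hz => (mem_Zc.1 hz.1).1) fun P f hf x hx hxW =>
      respected_of_generators hS hF W₀ (fun g hg y _ hy => hW₀key g hg y hy)
        (fun Q hQ β hβ y _ hy => ?_) hf hx hxW
    obtain ⟨g, hg, hgw⟩ := hagree Q hQ β hβ
    rw [hgw y (by simpa using hy.2 id (fn_id le_rfl) Q hQ)]
    exact hW₀key g hg y hy
  have hdis : W₀ ⊓ D = ⊥ := by
    rw [eq_bot_iff]
    rintro x ⟨hxW, hxD⟩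
    have hxP : x ∈ P₀ := (fr P₀ hP₀).Z_le hxW.1
    have hxW' : x ∈ W P₀ hP₀ := by simpa using hxW.2 id (fn_id le_rfl) P₀ hP₀
    have hxU := hOU P₀ hP₀ (hDP P₀ hP₀ x hxD hxP)
    have hcn : Subgroup.zpowers (d P₀ hP₀) ≤ Subgroup.normalizer (Subgroup.zpowers c : Set X) :=
      Subgroup.zpowers_le.2 (Subgroup.centralizer_le_normalizer _ (Subgroup.mem_centralizer_iff.2 fun q hq =>
        ((mem_Zc.1 (h.c_le hq)).2 _ (hP₀.1.1 (fr P₀ hP₀).d_mem)).symm))
    obtain ⟨e, he, v, hv, hev⟩ := (CfsgLib.Coprime.mem_sup_of_le_normalizer hcn).1 hxU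
    obtain ⟨l, rfl⟩ := Subgroup.mem_zpowers_iff.1 hv
    rcases zpow_two_cases (fr P₀ hP₀).d_pow l with ⟨-, hl⟩ | ⟨-, hl⟩ <;> rw [hl] at hev
    · rw [mul_one] at hev
      rcases mem_c_cases h he with rfl | rfl
      · exact Subgroup.mem_bot.2 hev.symm
      · exact absurd (hev ▸ hxW') (fr P₀ hP₀).c_notMem
    · exfalso
      refine (fr P₀ hP₀).d_notMem ?_
      rw [show d P₀ hP₀ = e⁻¹ * x by rw [← hev]; group]
      exact (Zc S).mul_mem ((Zc S).inv_mem (h.c_le he)) hxW.1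
  have hW₀ : W₀ = ⊥ := by
    by_contra hne
    have hD1 : D ≠ ⊥ := fun e => h.c_ne (Subgroup.mem_bot.1 (e ▸ hOD P₀ hP₀ (hcO P₀ hP₀)))
    have hnt : ∀ B : Subgroup X, B ≠ ⊥ → Subgroup.normalClosure (B : Set X) = ⊤ := by
      intro B hB
      rcases (Subgroup.normalClosure_normal (s := (B : Set X))).eq_bot_or_eq_top with e | e
      · exact absurd (eq_bot_iff.2 (e ▸ Subgroup.subset_normalClosure : (B : Set X) ⊆ (⊥ : Subgroup X))) hB
      · exact e
    have h1 := CfsgLib.LocalEven.ProductFusion.commutator_normalClosure_le S₀ hW₀cl hDcl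
      (fun a ha b hb => ((mem_Zc.1 ha.1).2 b (hDS hb)).symm) hdis
    rw [hnt W₀ hne, hnt D hD1, hO] at h1
    refine hXna ⟨⟨fun x y => ?_⟩⟩
    exact commutatorElement_eq_one_iff_mul_comm.1 (Subgroup.mem_bot.1
      (h1 (Subgroup.commutator_mem_commutator (Subgroup.mem_top x) (Subgroup.mem_top y))))
  have htriv : ∀ z ∈ Zc S, (∀ (g : X → X), Fn F S g → ∀ P hP, g z ∈ W P hP) → z = 1 := fun z hz hall =>
    Subgroup.mem_bot.1 (hW₀ ▸ (show z ∈ W₀ from ⟨hz, hall⟩))
  have hint : ∀ z ∈ Zc S, (∀ P hP, z ∈ W P hP) → z = 1 := fun z hz hall =>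
    htriv z hz fun g hg P hP => hgW P hP g hg z (hall P hP)
  have hdec : ∀ P hP, ∀ z ∈ Zc S, ∃ i : ℤ, ∃ w ∈ W P hP, z = c ^ i * w := by
    intro P hP z hz
    obtain ⟨i, j, w, hw, e⟩ := (fr P hP).dec z (Z_le h hP hz)
    refine ⟨i, w, hw, ?_⟩
    have hj : d P hP ^ j ∈ Zc S := by
      have : d P hP ^ j = (c ^ i)⁻¹ * z * w⁻¹ := by rw [e]; group
      rw [this]
      exact (Zc S).mul_mem ((Zc S).mul_mem ((Zc S).inv_mem ((Zc S).zpow_mem h.c_mem i)) hz)
        ((Zc S).inv_mem ((fr P hP).W_le hw))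
    have hd1 : d P hP ^ j = 1 := by
      by_contra hne
      obtain ⟨k, hk⟩ := exists_zpow_eq (fr P hP).d_pow (Subgroup.mem_zpowers_iff.2 ⟨j, rfl⟩) hne
        (Subgroup.mem_zpowers (d P hP))
      exact (fr P hP).d_notMem (hk ▸ (Zc S).zpow_mem hj k)
    rw [e, hd1, mul_one]
  have hZc : ∀ z ∈ Zc S, z ∈ Subgroup.zpowers c := by
    by_cases hone : ∀ P, F.IsEssential 2 P → P = P₀
    · intro z hz
      obtain ⟨i, w, hw, rfl⟩ := hdec P₀ hP₀ z hz
      have hw1 : w = 1 := hint w ((fr P₀ hP₀).W_le hw) fun P hP => by obtain rfl := hone P hP; exact hw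
      rw [hw1, mul_one]
      exact Subgroup.mem_zpowers_iff.2 ⟨i, rfl⟩
    push Not at hone
    obtain ⟨P₂, hP₂, hne02⟩ := hone
    have h02 : P₀ ≠ P₂ := Ne.symm hne02
    have hall2 : ∀ P, F.IsEssential 2 P → P = P₀ ∨ P = P₂ := fun P hP =>
      at_most_two h (fr P₀ hP₀) (fr P₂ hP₂) (fr P hP) h02
    have hboth : ∀ z, z ∈ W P₀ hP₀ → z ∈ W P₂ hP₂ → z = 1 := fun z h1 h2 =>
      hint z ((fr P₀ hP₀).W_le h1) fun P hP => by
        rcases hall2 P hP with rfl | rfl
        · exact h1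
        · exact h2
    have hw2 : ∀ w ∈ W P₀ hP₀, w = 1 ∨ c⁻¹ * w ∈ W P₂ hP₂ := by
      intro w hw
      obtain ⟨i, w', hw', e⟩ := hdec P₂ hP₂ w ((fr P₀ hP₀).W_le hw)
      rcases zpow_two_cases h.c_pow i with ⟨-, hi⟩ | ⟨-, hi⟩ <;> rw [hi] at e
      · rw [one_mul] at e
        exact Or.inl (hboth w hw (e ▸ hw'))
      · exact Or.inr (by rw [e, inv_mul_cancel_left]; exact hw')
    have hw_eq : ∀ w ∈ W P₀ hP₀, ∀ w' ∈ W P₀ hP₀, w ≠ 1 → w' ≠ 1 → w * w' = 1 := by
      intro w hw w' hw' h1 h2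
      refine hboth _ ((W P₀ hP₀).mul_mem hw hw') ?_
      have := (W P₂ hP₂).mul_mem ((hw2 w hw).resolve_left h1) ((hw2 w' hw').resolve_left h2)
      have hwc : w * c = c * w := (mem_Zc.1 h.c_mem).2 w (mem_Zc.1 ((fr P₀ hP₀).W_le hw)).1
      have hc2 : c⁻¹ * c⁻¹ = 1 := by rw [← mul_inv_rev, ← pow_two, h.c_pow, inv_one]
      rw [show c⁻¹ * w * (c⁻¹ * w') = c⁻¹ * (w * c⁻¹) * w' by group,
        (Commute.inv_right hwc).eq, ← mul_assoc, hc2, one_mul] at this
      exact this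
    have hgfix : ∀ (g : X → X), Fn F S g → ∀ w ∈ W P₀ hP₀, g w = w := by
      intro g hg w hw
      by_cases hw1 : w = 1
      · rw [hw1, hg.map_one]
      have hwS : w ∈ S := (mem_Zc.1 ((fr P₀ hP₀).W_le hw)).1
      have hgw1 : g w ≠ 1 := fun e => hw1 ((hg.eq_one_iff hwS).1 e)
      have h1 := hw_eq w hw w hw hw1 hw1
      have h2 := hw_eq w hw (g w) (hgW P₀ hP₀ g hg w hw) hw1 hgw1
      exact mul_left_cancel (h2.trans h1.symm)
    have hgZ : ∀ (g : X → X), Fn F S g → ∀ z ∈ Zc S, g z = z ∧ z ^ 2 = 1 := by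
      intro g hg z hz
      obtain ⟨i, w, hw, rfl⟩ := hdec P₀ hP₀ z hz
      have hwS : w ∈ S := (mem_Zc.1 ((fr P₀ hP₀).W_le hw)).1
      have hci : ∀ q, q = c ^ i → g q = q ∧ q ^ 2 = 1 := by
        rintro q rfl
        rcases zpow_two_cases h.c_pow i with ⟨-, hi⟩ | ⟨-, hi⟩ <;> rw [hi]
        · exact ⟨hg.map_one, one_pow 2⟩
        · exact ⟨hgc g hg, h.c_pow⟩
      refine ⟨by rw [hg.map_mul (S.zpow_mem hcS i) hwS, (hci _ rfl).1, hgfix g hg w hw], ?_⟩
      have hcw : Commute (c ^ i) w := Commute.zpow_left (h := ((mem_Zc.1 h.c_mem).2 w hwS).symm) (m := i)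
      rw [hcw.mul_pow, (hci _ rfl).2, one_mul]
      rcases eq_or_ne w 1 with rfl | hw1
      · exact one_pow 2
      · rw [pow_two]; exact hw_eq w hw w hw hw1 hw1
    have hgd : ∀ P hP, ∀ (g : X → X), Fn F S g → g (g (d P hP)) = d P hP := by
      intro P hP g hg
      have hdP := (fr P hP).d_mem
      have hgdP : g (d P hP) ∈ P := (hfix P hP g hg).le (mem_img_of_mem hdP)
      obtain ⟨z, hz, i, e⟩ := P_decomp h hP hdP (fr P hP).d_notMem hgdP
      rcases zpow_two_cases (fr P hP).d_pow i with ⟨-, hi⟩ | ⟨-, hi⟩ <;> rw [hi] at e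
      · rw [mul_one] at e
        exact absurd (mem_Zc_of_map h hg (hP.1.1 hdP) (e ▸ hz)) (fr P hP).d_notMem
      · rw [e, hg.map_mul (mem_Zc.1 hz).1 (hP.1.1 hdP), (hgZ g hg z hz).1, e, ← mul_assoc, ← pow_two,
          (hgZ g hg z hz).2, one_mul]
    have hne := frame_not_commute h (fr P₀ hP₀) (fr P₂ hP₂) h02
    have hinner : ∀ (g : X → X), Fn F S g → ∃ s ∈ S, ∀ x ∈ S, g x = s * x * s⁻¹ := by
      intro g hg
      obtain ⟨α, hα, hαg⟩ := aut_of_fn hg
      obtain ⟨m, hm, hmI⟩ := exists_pow_inn h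
      have hα2 : α ^ 2 = 1 := by
        refine MulEquiv.ext fun x => ?_
        obtain ⟨z, hz, i, j, e⟩ :=
          h.decomp' (hP₀.1.1 (fr P₀ hP₀).d_mem) (hP₂.1.1 (fr P₂ hP₂).d_mem) hne x.2
        let zS : S := ⟨z, (mem_Zc.1 hz).1⟩
        let aS : S := ⟨d P₀ hP₀, hP₀.1.1 (fr P₀ hP₀).d_mem⟩
        let bS : S := ⟨d P₂ hP₂, hP₂.1.1 (fr P₂ hP₂).d_mem⟩
        have hx : x = zS * aS ^ i * bS ^ j := Subtype.ext (by simpa [zS, aS, bS] using e)
        have key : ∀ q : S, g (g q) = q → (α ^ 2) q = q := by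
          intro q hq
          refine Subtype.ext ?_
          rw [pow_two, MulAut.mul_apply, hαg, hαg]
          exact hq
        show (α ^ 2) x = x
        rw [hx, map_mul, map_mul, map_zpow, map_zpow,
          key zS (by show g (g z) = z; rw [(hgZ g hg z hz).1, (hgZ g hg z hz).1]),
          key aS (hgd P₀ hP₀ g hg), key bS (hgd P₂ hP₂ g hg)]
      have hm2 : α ^ m = α := by
        obtain ⟨k, hk⟩ : ∃ k, m = 2 * k + 1 := ⟨m / 2, by omega⟩
        rw [hk, pow_succ, pow_mul, hα2, one_pow, one_mul]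
      obtain ⟨s, hs⟩ := hm2 ▸ hmI α hα
      refine ⟨s, s.2, fun x hx => ?_⟩
      have h1 := hαg ⟨x, hx⟩
      rw [← hs] at h1
      exact h1.symm
    set U := Subgroup.zpowers c ⊔ Subgroup.zpowers (d P₀ hP₀) with hU
    set D := U ⊔ Subgroup.zpowers (d P₂ hP₂) with hD
    have hconjC : ∀ s ∈ S, ∀ x ∈ S, x⁻¹ * (s * x * s⁻¹) ∈ Subgroup.zpowers c := by
      intro s hs x hx
      have := h.comm_mem (S.inv_mem hx) hs
      rwa [commutatorElement_def, inv_inv, mul_assoc, mul_assoc, ← mul_assoc s] at this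
    have hfocal : F.focalSubgroup ≤ D := by
      let C : Subgroup X → (X → X) → Prop := fun P f => ∀ x ∈ P, x⁻¹ * f x ∈ D
      let E := predSystem F C (fun P f g he _ h' x hx => he x hx ▸ h' x hx)
        (fun P hP s hs x hx => Subgroup.mem_sup_left (Subgroup.mem_sup_left (hconjC s hs x (hP hx))))
        (fun P R f g hf hg hm h' h'' x hx => by
          simpa [mul_assoc] using Subgroup.mul_mem _ (h' x hx) (h'' _ (hm x hx)))
        (fun P f g hf hg hgf h' y hy => by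
          obtain ⟨x, hx, rfl⟩ := hf.mem_img.1 hy
          rw [hgf x hx]
          simpa using Subgroup.inv_mem _ (h' x hx))
      have hstep : ∀ P, P = S ∨ F.IsEssential 2 P → F.autGroup P ≤ E.autGroup P := by
        intro P hP α hα
        rcases hP with rfl | hP
        · refine (mem_autGroup_iff_fn le_rfl).2 (fn_predSystem.2 ⟨(mem_autGroup_iff_fn le_rfl).1 hα, ?_⟩)
          intro x hx
          obtain ⟨s, hs, hsx⟩ := hinner _ ((mem_autGroup_iff_fn le_rfl).1 hα)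
          rw [hsx x hx]
          exact Subgroup.mem_sup_left (Subgroup.mem_sup_left (hconjC s hs x hx))
        · refine (mem_autGroup_iff_fn hP.1.1).2 (fn_predSystem.2 ⟨(mem_autGroup_iff_fn hP.1.1).1 hα, ?_⟩)
          intro x hx
          obtain ⟨g, hg, hgv⟩ := hmod P hP α hα
          obtain ⟨s, hs, hsx⟩ := hinner g hg
          have hUD : Subgroup.zpowers c ⊔ Subgroup.zpowers (d P hP) ≤ D := by
            refine sup_le ((le_sup_left : Subgroup.zpowers c ≤ U).trans le_sup_left) ?_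
            rcases hall2 P hP with rfl | rfl
            · exact (le_sup_right : Subgroup.zpowers (d P hP) ≤ U).trans le_sup_left
            · exact le_sup_right
          rw [show x⁻¹ * autFn α x = x⁻¹ * g x * ((g x)⁻¹ * autFn α x) by group]
          refine Subgroup.mul_mem _ ?_ (hUD (hgv x hx).2)
          rw [hsx x (hP.1.1 hx)]
          exact Subgroup.mem_sup_left (Subgroup.mem_sup_left (hconjC s hs x (hP.1.1 hx)))
      have hle : F ≤ E := alperin hS hF E (hstep S (Or.inl rfl)) fun P _ hP => hstep P (Or.inr hP)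
      refine (Subgroup.closure_le _).2 ?_
      rintro _ ⟨P, φ, x, hφ, rfl⟩
      have := (fn_predSystem.1 (fn_of_le hle (fn_ofHom hφ))).2 x x.2
      rwa [ofHom_coe] at this
    have hSD : S ≤ D := by
      rw [focal_eq_hyperfocal_sup hS hF, hhyp] at hfocal
      exact le_sup_left.trans hfocal
    intro z hz
    have hUS : U ≤ P₀ := sup_le (Subgroup.zpowers_le.2 ((fr P₀ hP₀).Z_le h.c_mem))
      (Subgroup.zpowers_le.2 (fr P₀ hP₀).d_mem)
    have hnorm : Subgroup.zpowers (d P₂ hP₂) ≤ Subgroup.normalizer (U : Set X) := by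
      rw [Subgroup.zpowers_le]
      haveI := finite_of_le_base (hUS.trans hP₀.1.1)
      refine mem_normalizer_of_map_le fun u hu => ?_
      have := hconjC _ (hP₂.1.1 (fr P₂ hP₂).d_mem) u (hP₀.1.1 (hUS hu))
      have h' := U.mul_mem hu ((le_sup_left : Subgroup.zpowers c ≤ U) this)
      rwa [mul_inv_cancel_left] at h'
    obtain ⟨u, hu, v, hv, huv⟩ := (CfsgLib.Coprime.mem_sup_of_le_normalizer hnorm).1 (hSD (mem_Zc.1 hz).1)
    obtain ⟨k, rfl⟩ := Subgroup.mem_zpowers_iff.1 hv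
    have hk1 : d P₂ hP₂ ^ k = 1 := by
      rcases zpow_two_cases (fr P₂ hP₂).d_pow k with ⟨-, hk⟩ | ⟨-, hk⟩
      · exact hk
      · exfalso
        refine hne ?_
        have hd2 : d P₂ hP₂ ∈ P₀ := by
          rw [show d P₂ hP₂ = u⁻¹ * z by rw [← huv, hk]; group]
          exact P₀.mul_mem (P₀.inv_mem (hUS hu)) ((fr P₀ hP₀).Z_le hz)
        exact (fr P₀ hP₀).comm _ (fr P₀ hP₀).d_mem _ hd2
    rw [hk1, mul_one] at huv
    subst huv
    have hcn : Subgroup.zpowers (d P₀ hP₀) ≤ Subgroup.normalizer (Subgroup.zpowers c : Set X) :=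
      Subgroup.zpowers_le.2 (Subgroup.centralizer_le_normalizer _ (Subgroup.mem_centralizer_iff.2 fun q hq =>
        ((mem_Zc.1 (h.c_le hq)).2 _ (hP₀.1.1 (fr P₀ hP₀).d_mem)).symm))
    obtain ⟨e, he, v, hv, hev⟩ := (CfsgLib.Coprime.mem_sup_of_le_normalizer hcn).1 hu
    obtain ⟨l, rfl⟩ := Subgroup.mem_zpowers_iff.1 hv
    rcases zpow_two_cases (fr P₀ hP₀).d_pow l with ⟨-, hl⟩ | ⟨-, hl⟩ <;> rw [hl] at hev
    · rw [mul_one] at hev
      rwa [← hev]
    · exfalso
      refine (fr P₀ hP₀).d_notMem ?_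
      rw [show d P₀ hP₀ = e⁻¹ * u by rw [← hev]; group]
      exact (Zc S).mul_mem ((Zc S).inv_mem (h.c_le he)) hz
  -- the group
  have hcard : Nat.card S = 8 := by
    have h1 : (Subgroup.center S).map S.subtype = Subgroup.zpowers c := by
      refine le_antisymm ?_ (Subgroup.zpowers_le.2 ⟨⟨c, hcS⟩, mem_Zc_iff_center.1 h.c_mem, rfl⟩)
      rintro _ ⟨z, hz, rfl⟩
      exact hZc _ (mem_Zc_iff_center.2 hz)
    have h2 : Nat.card ((Subgroup.center S).map S.subtype) = Nat.card (Subgroup.zpowers c) := by rw [h1]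
    rw [Subgroup.card_map_of_injective S.subtype_injective, Nat.card_zpowers,
      orderOf_eq_prime h.c_pow h.c_ne] at h2
    rw [← (Subgroup.center S).card_mul_index, h2, hidx]
  have hdS : d P₀ hP₀ ∈ S := hP₀.1.1 (fr P₀ hP₀).d_mem
  obtain ⟨s, hs, hsd⟩ : ∃ s ∈ S, s * d P₀ hP₀ ≠ d P₀ hP₀ * s := by
    by_contra hall
    push Not at hall
    exact (fr P₀ hP₀).d_notMem (mem_Zc.2 ⟨hdS, hall⟩)
  obtain ⟨D₀, hD₀, hD2⟩ : ∃ D₀ : S, (D₀ : X) = d P₀ hP₀ ∧ D₀ * D₀ = 1 :=
    ⟨⟨_, hdS⟩, rfl, Subtype.ext (by rw [Subgroup.coe_mul, ← pow_two]; exact (fr P₀ hP₀).d_pow)⟩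
  have hDinv : D₀⁻¹ = D₀ := inv_eq_of_mul_eq_one_left hD2
  let T : S := ⟨s, hs⟩
  let C : S := ⟨c, hcS⟩
  have hcomm : ∀ u v : S, u * v ≠ v * u → u * v * u⁻¹ * v⁻¹ = C := fun u v hne => Subtype.ext (by
    have := comm_eq_c h u.2 v.2 fun e => hne (Subtype.ext e)
    simpa [commutatorElement_def] using this)
  have hTD : D₀ * T ≠ T * D₀ := fun e => hsd (by
    have := congrArg Subtype.val e
    simpa [T, hD₀] using this.symm)
  obtain ⟨r, hr2, hrd⟩ : ∃ r : S, r * r = C ∧ D₀ * r ≠ r * D₀ := by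
    rcases mem_c_cases h (hZc _ (h.pow_mem hs)) with e | e
    · refine ⟨D₀ * T, ?_, fun e' => hTD ?_⟩
      · have hT : T⁻¹ = T := inv_eq_of_mul_eq_one_left (Subtype.ext (by simpa [T, pow_two] using e))
        have := hcomm D₀ T hTD
        rw [hDinv, hT] at this
        rwa [← mul_assoc (D₀ * T)]
      · rw [mul_assoc D₀ T] at e'
        exact mul_left_cancel e'
    · exact ⟨T, Subtype.ext (by simpa [T, C, pow_two] using e), hTD⟩
  have hC2 : C * C = 1 := Subtype.ext (by simpa [C, pow_two] using h.c_pow)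
  have hr4 : orderOf r = 4 := by
    rw [show (4 : ℕ) = 2 ^ (1 + 1) from rfl]
    refine orderOf_eq_prime_pow ?_ ?_
    · rw [pow_one, pow_two, hr2]; exact fun e => h.c_ne (congrArg Subtype.val e)
    · rw [show (2 : ℕ) ^ (1 + 1) = 2 * 2 from rfl, pow_mul, pow_two r, hr2, pow_two, hC2]
  refine CfsgLib.TwoGroups.CyclicMax.dihedral_iso hr4 (by rw [hcard]) (b := D₀) (fun hm => hrd ?_) hD2 ?_
  · obtain ⟨k, hk⟩ := Subgroup.mem_zpowers_iff.1 hm
    rw [← hk]
    exact ((Commute.refl r).zpow_left k).eq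
  · have := hcomm D₀ r hrd
    rw [mul_inv_eq_iff_eq_mul] at this
    rw [this, ← hr2, eq_inv_iff_mul_eq_one, mul_assoc (r * r), mul_assoc, ← mul_assoc r r r]
    rw [← hr2] at hC2
    simpa [mul_assoc] using hC2

end CfsgLib.Recognition.CentreIndexFour
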