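import Cfsg.Agent.Lib.Recognition.CentreIndexFour.AbelianSylow
import Cfsg.Agent.Lib.Recognition.CentreIndexFour.Fusion
import Cfsg.Agent.Lib.GWKlein.Theorem
import Cfsg.Agent.Lib.GWDihedral.Statement
import Cfsg.Agent.Lib.KGroups.AltMultiplier
import Cfsg.Prelude.Def_CaseTheorems

/-!
# Quasisimple groups whose Sylow 2-subgroup has centre of index four
-/

set_option autoImplicit false
set_option linter.unusedSectionVars false
set_option linter.style.haveILetI false

namespace CfsgLib.Recognition.CentreIndexFour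

open scoped commutatorElement
open Subgroup CfsgLib.Fsys CfsgLib.Fsys.CentralIndex

universe u

variable {G : Type u} [Group G] [Finite G]

/-- The kernel of a central cover of `A₇` with no involution in the kernel has order 1 or 3. -/
theorem card_ker_seven (ξ : G →* alternatingGroup (Fin 7)) (hξ : Cfsg.IsStemExtension ξ)
    (hodd : ¬ 2 ∣ Nat.card ξ.ker) : Nat.card ξ.ker = 1 ∨ Nat.card ξ.ker = 3 := by
  obtain ⟨hs, hk, hd⟩ := id hξ
  have h6 := KGroups.AltMultiplier.seven_bound ξ hξ
  have h5 : ¬ 5 ∣ Nat.card ξ.ker := fun h => by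
    haveI : Fact (Nat.Prime 5) := ⟨by norm_num⟩
    obtain ⟨z, hz⟩ := exists_prime_orderOf_dvd_card' 5 h
    have h504 : ((z : G)) ^ 504 = 1 := Schur.Alternating.pow_eq_one_of_elt ξ hs hk (by norm_num)
      ⟨Equiv.swap 0 1 * Equiv.swap 1 2 * Equiv.swap 2 3 * Equiv.swap 3 4, by
        rw [Equiv.Perm.mem_alternatingGroup]; decide +kernel⟩
      5 504 (by norm_num) (by decide +kernel) (by decide +kernel) (by decide +kernel) ⟨z.2, hd z.2⟩
    have := orderOf_dvd_of_pow_eq_one h504
    rw [Subgroup.orderOf_coe, hz] at this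
    norm_num at this
  have h0 : 0 < Nat.card ξ.ker := Nat.card_pos
  interval_cases hc : Nat.card ξ.ker <;>
    first | exact Or.inl rfl | exact Or.inr rfl | exact (h5 dvd_rfl).elim | exact absurd (by norm_num) hodd

variable [Group.IsPerfect G]

/-- Transfer: a central element in a Sylow subgroup of a perfect group lies in its derived group. -/
theorem mem_commutator_of_central {p : ℕ} [Fact p.Prime] (P : Sylow p G) {x : G} (hxP : x ∈ (P : Subgroup G))
    (hxZ : x ∈ center G) : (⟨x, hxP⟩ : (P : Subgroup G)) ∈ _root_.commutator (P : Subgroup G) := by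
  let φ : (P : Subgroup G) →* Abelianization (P : Subgroup G) := Abelianization.of
  have h1 := Fusion.Transfer.transfer_eq_pow_of_central φ (x := ⟨x, hxP⟩) hxZ
  have h2 : MonoidHom.transfer φ x = 1 :=
    MonoidHom.mem_ker.1 (Abelianization.commutator_subset_ker (MonoidHom.transfer φ)
      (by rw [Group.IsPerfect.commutator_eq_top]; exact mem_top x))
  obtain ⟨k, hk⟩ := P.2 ⟨x, hxP⟩
  have h3 : φ ⟨x, hxP⟩ ^ p ^ k = 1 := by rw [← map_pow, hk, map_one]
  have h4 := pow_gcd_eq_one.2 ⟨h3, h1.symm.trans h2⟩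
  rw [Nat.Coprime.gcd_eq_one (((Fact.out : p.Prime).coprime_iff_not_dvd.2 P.not_dvd_index).pow_left k),
    pow_one] at h4
  rwa [← Abelianization.ker_of, MonoidHom.mem_ker]

/-- The theorem, given the theorem on simple groups with dihedral Sylow 2-subgroups. -/
theorem of_simpleDihedral (hD : GWDihedral.SimpleDihedral.{u}) (hq : Cfsg.IsQuasisimple G) (P : Sylow 2 G)
    (hna : ¬ IsMulCommutative (P : Subgroup G)) (hZ : (center (P : Subgroup G)).index = 4) :
    Nat.card (P : Subgroup G) = 8 ∧
      (Nonempty (G ≃* alternatingGroup (Fin 7)) ∨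
       (Nat.card (center G) = 3 ∧ Nonempty (G ⧸ center G ≃* alternatingGroup (Fin 7))) ∨
       ∃ (F : Type) (_ : Field F) (_ : Fintype F), Odd (Fintype.card F) ∧
         Nonempty (G ⧸ center G ≃* Matrix.ProjectiveSpecialLinearGroup (Fin 2) F)) := by
  classical
  haveI : Fact (Nat.Prime 2) := ⟨Nat.prime_two⟩
  haveI hX : IsSimpleGroup (G ⧸ center G) := hq.2
  set π := QuotientGroup.mk' (center G) with hπ
  set Q : Sylow 2 (G ⧸ center G) := P.mapSurjective (QuotientGroup.mk'_surjective (center G)) with hQdef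
  have hQ : (Q : Subgroup (G ⧸ center G)) = (P : Subgroup G).map π := rfl
  have hXna : ¬ IsMulCommutative (G ⧸ center G) := fun hc => by
    let _ : CommGroup (G ⧸ center G) :=
      { (inferInstance : Group (G ⧸ center G)) with mul_comm := hc.is_comm.comm }
    have hle := Abelianization.commutator_subset_ker (MonoidHom.mk' (M := G) (fun g => π g) (map_mul π))
    rw [Group.IsPerfect.commutator_eq_top] at hle
    obtain ⟨q, hq1⟩ := exists_ne (1 : G ⧸ center G)
    obtain ⟨g, rfl⟩ := QuotientGroup.mk'_surjective (center G) q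
    exact hq1 (MonoidHom.mem_ker.1 (hle (mem_top g)))
  obtain ⟨c, h⟩ := setup_exists (p := 2) P.2 (group_isSaturated P) (by rw [hZ]; norm_num) (by
    by_contra hc
    push Not at hc
    exact hna ⟨⟨hc⟩⟩)
  have hcP : c ∈ (P : Subgroup G) := (mem_Zc.1 h.c_mem).1
  have hPZ : ∀ x ∈ (P : Subgroup G), x ∈ center G → x = 1 ∨ x = c := by
    intro x hxP hxZ
    refine Cfsg.Agent.S5265.mem_c_cases h ?_
    have h1 : _root_.commutator (P : Subgroup G) ≤ (zpowers c).subgroupOf (P : Subgroup G) := by
      rw [_root_.commutator_def, commutator_le]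
      intro a _ b _
      exact mem_subgroupOf.2 (h.comm_mem a.2 b.2)
    exact mem_subgroupOf.1 (h1 (mem_commutator_of_central P hxP hxZ))
  -- the restriction of the quotient map
  let f : (P : Subgroup G) →* ↥(Q : Subgroup (G ⧸ center G)) := π.subgroupMap (P : Subgroup G)
  have hf : Function.Surjective f := π.subgroupMap_surjective _
  have hfker : ∀ x, f x = 1 ↔ (x : G) ∈ center G := fun x => by
    rw [← QuotientGroup.eq_one_iff]
    exact Subtype.ext_iff
  have hcard : Nat.card ↥(Q : Subgroup (G ⧸ center G)) * Nat.card f.ker = Nat.card (P : Subgroup G) := by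
    rw [← f.ker.index_mul_card, index_ker, MonoidHom.range_eq_top.2 hf, card_top]
  by_cases hcZ : c ∈ center G
  · -- the centre of `G` has even order
    have hQab : IsMulCommutative ↥(Q : Subgroup (G ⧸ center G)) := ⟨⟨fun a b => by
      obtain ⟨x, rfl⟩ := hf a
      obtain ⟨y, rfl⟩ := hf b
      rw [← commutatorElement_eq_one_iff_mul_comm, ← map_commutatorElement, hfker,
        show (((⁅x, y⁆ : (P : Subgroup G)) : G)) = ⁅(x : G), (y : G)⁆ by simp [commutatorElement_def]]
      rcases Cfsg.Agent.S5265.mem_c_cases h (h.comm_mem x.2 y.2) with e | e <;> rw [e]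
      · exact (center G).one_mem
      · exact hcZ⟩⟩
    have hidx : ((Zc (P : Subgroup G)).map π).relIndex (Q : Subgroup (G ⧸ center G)) = 4 := by
      rw [← hZ, relIndex, ← index_comap_of_surjective (((Zc (P : Subgroup G)).map π).subgroupOf _) hf]
      congr 1
      ext x
      rw [mem_comap, mem_subgroupOf, ← mem_Zc_iff_center]
      refine ⟨fun hx => ?_, fun hx => mem_map_of_mem π hx⟩
      obtain ⟨z, hz, e⟩ := hx
      have hk : z⁻¹ * (x : G) ∈ center G := QuotientGroup.eq.1 e
      have hz' : z⁻¹ * (x : G) ∈ Zc (P : Subgroup G) := by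
        rcases hPZ _ (mul_mem (inv_mem (mem_Zc.1 hz).1) x.2) hk with e' | e' <;> rw [e']
        · exact one_mem _
        · exact h.c_mem
      have := mul_mem hz hz'
      rwa [mul_inv_cancel_left] at this
    haveI hK := isKleinFour_of_invariant hXna Q hQab ((Zc (P : Subgroup G)).map π) hidx (by
      rintro _ ⟨x, hx, rfl⟩
      exact ⟨x ^ 2, h.pow_mem hx, map_pow π x 2⟩) (by
      intro n hn q hq hqZ
      obtain ⟨g, rfl⟩ := QuotientGroup.mk'_surjective (center G) n
      have hgP : ∀ x ∈ (P : Subgroup G), g * x * g⁻¹ ∈ (P : Subgroup G) := by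
        intro x hx
        obtain ⟨y, hy, e⟩ := (mem_normalizer_iff.1 hn (π x)).1 (mem_map_of_mem π hx)
        obtain ⟨k, hkdef⟩ : ∃ k, y⁻¹ * (g * x * g⁻¹) = k := ⟨_, rfl⟩
        have hk : k ∈ center G := hkdef ▸ QuotientGroup.eq.1 (e.trans (by
          simp [π, QuotientGroup.mk_mul, QuotientGroup.mk_inv]))
        have hN : ∀ z ∈ (P : Subgroup G), z ^ Nat.card (P : Subgroup G) = 1 := fun z hz =>
          congrArg Subtype.val (pow_card_eq_one' (x := (⟨z, hz⟩ : (P : Subgroup G))))
        have hk1 : k ^ Nat.card (P : Subgroup G) = 1 := by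
          have h1 := (show Commute y k from (mem_center_iff.1 hk y)).mul_pow (Nat.card (P : Subgroup G))
          rw [hN y hy, one_mul, show y * k = g * x * g⁻¹ by rw [← hkdef, mul_inv_cancel_left],
            conj_pow, hN x hx, mul_one, mul_inv_cancel] at h1
          exact h1.symm
        have hkP : k ∈ (P : Subgroup G) := by
          obtain ⟨m, hm⟩ := P.2.exists_card_eq
          have hkp : IsPGroup 2 (zpowers k) := by
            obtain ⟨j, -, hj⟩ := (Nat.dvd_prime_pow Nat.prime_two).1 (orderOf_dvd_of_pow_eq_one (hm ▸ hk1))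
            exact IsPGroup.of_card ((Nat.card_zpowers k).trans hj)
          have hsup : IsPGroup 2 ↥((P : Subgroup G) ⊔ zpowers k) :=
            P.2.to_sup_of_normal_right' hkp ((normalizer_eq_top_iff.2 (⟨fun x hx g => by rwa [mem_center_iff.1 (zpowers_le.2 hk hx) g, mul_inv_cancel_right]⟩ : (zpowers k).Normal)).symm ▸ le_top)
          exact (P.3 hsup le_sup_left) ▸ (mem_sup_right (mem_zpowers k) : k ∈ (P : Subgroup G) ⊔ zpowers k)
        have := mul_mem hy hkP
        rwa [← hkdef, mul_inv_cancel_left] at this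
      obtain ⟨z, hz, rfl⟩ := hqZ
      have hgn : Fn (Cfsg.groupFusionSystem (P : Subgroup G)) (P : Subgroup G) (fun x => g * x * g⁻¹) :=
        fn_group_conj le_rfl g hgP
      exact ⟨g * z * g⁻¹, Cfsg.Agent.S5265.map_Zc h hgn hz, by simp [π]⟩)
    have h4 : Nat.card ↥(Q : Subgroup (G ⧸ center G)) = 4 := IsKleinFour.card_four
    have hk2 : Nat.card f.ker = 2 := by
      have e : f.ker.map (P : Subgroup G).subtype = zpowers c := by
        refine le_antisymm ?_ (zpowers_le.2 ⟨⟨c, hcP⟩, (hfker _).2 hcZ, rfl⟩)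
        rintro _ ⟨x, hx, rfl⟩
        rcases hPZ _ x.2 ((hfker x).1 hx) with e | e
        · rw [show (P : Subgroup G).subtype x = 1 from e]; exact one_mem _
        · rw [show (P : Subgroup G).subtype x = c from e]; exact mem_zpowers c
      rw [← card_map_of_injective (P : Subgroup G).subtype_injective, e, Nat.card_zpowers,
        orderOf_eq_prime h.c_pow h.c_ne]
    refine ⟨by rw [← hcard, h4, hk2], Or.inr (Or.inr ?_)⟩
    obtain ⟨F, i1, i2, hodd, -, -, e⟩ := GWKlein.simpleKlein (G ⧸ center G) hXna fun h8 => by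
      have := Q.pow_dvd_card_of_pow_dvd_card (n := 3) h8
      rw [h4] at this
      norm_num at this
    exact ⟨F, i1, i2, hodd, e⟩
  · -- the centre of `G` has odd order
    have hodd : ¬ 2 ∣ Nat.card (center G) := fun h2 => by
      obtain ⟨k, hk⟩ := exists_prime_orderOf_dvd_card' 2 h2
      obtain ⟨g, hg⟩ : ∃ g : G, g * k * g⁻¹ ∈ (P : Subgroup G) := by
        have hkp : IsPGroup 2 (zpowers (k : G)) := IsPGroup.of_card
          ((Nat.card_zpowers _).trans ((orderOf_coe k).trans hk |>.trans (pow_one 2).symm))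
        obtain ⟨g, hg⟩ := Involution.Basic.exists_conj_le P hkp
        exact ⟨g, hg k (mem_zpowers _)⟩
      rw [mem_center_iff.1 k.2 g, mul_inv_cancel_right] at hg
      rcases hPZ k hg k.2 with e | e
      · rw [Subtype.ext e (a2 := (1 : center G)), orderOf_one] at hk
        omega
      · exact hcZ (e ▸ k.2)
    have hinj : Function.Injective f := (MonoidHom.ker_eq_bot_iff f).1 (eq_bot_iff.2 fun x hx => by
      rcases hPZ x x.2 ((hfker x).1 hx) with e | e
      · exact mem_bot.2 (Subtype.ext e)
      · exact absurd (e ▸ (hfker x).1 hx) hcZ)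
    let e : (P : Subgroup G) ≃* ↥(Q : Subgroup (G ⧸ center G)) := MulEquiv.ofBijective f ⟨hinj, hf⟩
    obtain ⟨x, y, hxy⟩ := h.noncomm
    obtain ⟨i⟩ := dihedral_of_simple Q ⟨e x, e y, fun he => hxy (e.injective (by rw [map_mul, map_mul, he]))⟩ (by
      rw [← hZ, ← index_comap_of_surjective _ (f := e.toMonoidHom) e.surjective]
      congr 1
      ext z
      simp only [mem_comap, mem_center_iff, MulEquiv.coe_toMonoidHom]
      refine ⟨fun hz w => e.injective ?_, fun hz w => ?_⟩
      · rw [map_mul, map_mul]; exact hz (e w)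
      · obtain ⟨w, rfl⟩ := e.surjective w
        rw [← map_mul, ← map_mul, hz w])
    refine ⟨by rw [Nat.card_congr (e.trans i).toEquiv, DihedralGroup.nat_card], ?_⟩
    rcases hD (G ⧸ center G) hXna Q 4 (by norm_num) ⟨i⟩ with ⟨F, i1, i2, hF, -, eF⟩ | ha
    · exact Or.inr (Or.inr ⟨F, i1, i2, hF, eF⟩)
    obtain ⟨a⟩ := ha
    have hker : (a.toMonoidHom.comp π).ker = center G := by
      rw [← MonoidHom.comap_ker, (MonoidHom.ker_eq_bot_iff _).2 a.injective, MonoidHom.comap_bot, QuotientGroup.ker_mk']
    have hst : Cfsg.IsStemExtension (a.toMonoidHom.comp π) := by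
      refine ⟨a.surjective.comp (QuotientGroup.mk'_surjective _), hker.le, ?_⟩
      rw [Group.IsPerfect.commutator_eq_top]
      exact le_top
    rcases card_ker_seven _ hst (by rwa [hker]) with h1 | h3
    · rw [hker] at h1
      exact Or.inl ⟨((QuotientGroup.quotientMulEquivOfEq (card_eq_one.1 h1)).trans
        QuotientGroup.quotientBot).symm.trans a⟩
    · rw [hker] at h3
      exact Or.inr (Or.inl ⟨h3, ⟨a⟩⟩)

end CfsgLib.Recognition.CentreIndexFour
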